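import Cfsg.Agent.H137.G24.Dat

/-!
# Certificates of the 24 classes of `G₂(4)` under `G₂(4):2` (helper137)
-/

set_option autoImplicit false
set_option maxRecDepth 1000000
set_option exponentiation.threshold 5000
set_option Elab.async false

namespace Cfsg.Agent.H137.G24

open Cfsg.Agent.H123.Cls

/-- the keys -/
abbrev key : List (Bool × ℕ) := [(false, 1), (false, 2), (true, 5)]

theorem bd0 : chkB 416 9 row 9 p0 []
    [.cell [], .base 0 0 1, .cnt 0 [20], .base 0 1 1, .cell [(true, 2), (true, 0)], .cnt 0 [0, 4, 12], .base 1 5 1, .cell [(true, 4), (true, 0)], .cnt 0 [3, 0, 1], .cell [(true, 11), (true, 0)], .base 0 340 1, .cell [(true, 0), (true, 2), (true, 8), (false, 6)], .cnt 0 [3, 2, 1, 4, 5, 0], .cell [(true, 4), (true, 15), (true, 10), (false, 13)], .cnt 0 [4, 3, 5, 2, 6, 7, 1, 8], .cnt 1 [6, 4, 5, 7, 3, 2, 8, 10, 0], .cell [(true, 11), (true, 25), (true, 8)], .cnt 0 [0], .cell [(true, 19), (true, 13), (false, 2), (false, 5), (true, 0)], .cnt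 0 [0], .fin [32, 37, 26, 2, 20, 0, 29, 35, 27, 12, 40, 18, 10, 25, 17, 11, 42, 6, 31, 9, 15, 8, 7, 5, 38, 23, 4]] 503193599 = true := by decide +kernel

theorem sg0 : chkSig 416 9 row 9 p0 key [416, 416, 0] = true := by decide +kernel

theorem wd0 : chkW 416 9 gens p0 [2, 5, 4, 1, 0, 5, 3, 1, 5, 2, 4, 2, 5, 4, 1, 0, 5, 3, 1, 4, 2, 5] = true := by decide +kernel

theorem bd1 : chkB 416 9 row 9 p1 [(false, 1), (true, 1)]
    [.base 1 6 1, .cell [(true, 1), (false, 0)], .base 0 0 2, .cell [(true, 3), (true, 0), (true, 4), (false, 1)], .cnt 0 [1, 2, 0, 3], .cell [(true, 6), (true, 3), (true, 5), (false, 9), (false, 10)], .base 0 339 2, .cell [(true, 10), (true, 6), (false, 1), (false, 0), (false, 9), (false, 8)], .cnt 0 [5, 3, 4, 6, 8, 2, 7, 9, 10], .cnt 2 [8, 7, 6, 9, 10, 12, 5, 4, 11, 13], .cnt 11 [2, 1, 3], .cnt 4 [4, 6, 8], .fin [32, 38, 5, 34, 27, 37, 26, 2, 24, 4, 15, 1, 22, 35, 21, 13, 12, 14, 3, 30, 10, 8, 39, 17, 11, 23, 20, 16, 6, 0]] 7679 = true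 := by decide +kernel

theorem sg1 : chkSig 416 9 row 9 p1 key [16, 416, 160] = true := by decide +kernel

theorem wd1 : chkW 416 9 gens p1 [2, 5, 4, 1, 0, 5, 3, 1, 2, 3, 2, 1, 2, 3, 2, 0, 4, 3, 2, 5, 4, 1, 0, 5, 3, 1, 3, 4, 0, 2, 3, 2, 1, 2, 3, 2] = true := by decide +kernel

theorem bd2 : chkB 416 9 row 9 p2 [(false, 1)]
    [.cnt 0 [0], .cell [(false, 0), (false, 1)], .base 0 0 2, .cell [(true, 4), (true, 1)], .cnt 0 [4, 0, 1], .base 0 13 2, .cell [(true, 7), (true, 1), (true, 0), (false, 10)], .base 0 267 2, .cell [(true, 3), (true, 5), (true, 0), (false, 4)], .cnt 0 [1, 2, 3, 4, 0], .cell [(true, 4), (true, 11), (false, 10), (false, 7), (false, 9)], .cnt 0 [4, 5, 3, 6, 7, 1, 2], .cnt 2 [10, 8, 9, 13, 4, 6, 11, 15, 12, 17, 18, 5, 14], .cnt 8 [6, 3, 2, 4, 5], .fin [37, 30, 36, 33, 35, 29, 22, 41, 24, 43, 23, 4, 1, 3, 0, 21, 42, 2, 15, 17, 16, 13, 32, 14, 8, 12, 18, 7, 39, 28, 11]] 122879 = true := by decide +kernel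

theorem sg2 : chkSig 416 9 row 9 p2 key [32, 416, 0] = true := by decide +kernel

theorem wd2 : chkW 416 9 gens p2 [2, 5, 4, 1, 0, 5, 3, 1, 3, 2, 5, 4, 1, 0, 5, 3, 1, 3] = true := by decide +kernel

theorem bd3 : chkB 416 9 row 9 p3 [(false, 1), (true, 1)]
    [.cnt 1 [0, 1, 3], .base 1 0 3, .cell [(true, 6), (true, 2), (true, 1), (true, 0)], .base 0 345 3, .cell [(true, 7), (true, 4), (false, 2), (false, 1), (false, 0)], .cnt 0 [0, 1, 2, 3], .cell [(true, 10), (true, 6), (true, 14), (false, 7), (false, 5), (true, 3)], .cnt 0 [1, 2, 0], .cell [(true, 17), (true, 7), (true, 2), (false, 14), (false, 13)], .cnt 0 [2, 3, 1, 4, 0], .cnt 1 [9, 11, 8, 7, 15, 13, 14, 6, 10, 16, 17, 3, 23], .cnt 8 [1, 5], .fin [28, 23, 39, 19, 35, 31, 36, 34, 32, 0, 18, 38, 27, 14, 13, 12, 16, 11, 10, 9, 30, 8, 17, 1, 4, 37, 22, 5, 7, 6, 2]] 359 = true := by decide +kernel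

theorem sg3 : chkSig 416 9 row 9 p3 key [5, 5, 60] = true := by decide +kernel

theorem wd3 : chkW 416 9 gens p3 [2, 5, 4, 1, 0, 5, 3, 1, 4, 2, 5, 4, 1, 0, 5, 3, 1, 4] = true := by decide +kernel

theorem bd4 : chkB 416 9 row 9 p4 [(false, 1)]
    [.cell [(false, 0)], .base 0 2 3, .cell [(false, 2), (false, 1), (false, 4), (false, 0)], .base 0 5 3, .cell [(true, 6), (true, 2), (true, 5), (false, 1), (false, 0)], .base 0 100 3, .cell [(true, 10), (true, 8), (true, 0), (false, 12), (false, 4)], .cnt 0 [1, 2, 0], .cell [(true, 9), (true, 11), (true, 2), (false, 10), (false, 8), (false, 5)], .cnt 0 [2, 1, 3, 4, 0], .cell [(true, 1), (true, 6), (false, 15), (false, 22)], .cnt 0 [0, 1, 2], .cnt 5 [9, 11, 8, 10, 6, 13, 5, 14, 16, 26], .cnt 3 [3, 4], .fin [14, 33, 24, 20, 28, 31, 26, 30, 0, 1, 27, 36, 32, 19, 13, 23, 18, 10, 35, 11, 8, 6, 17, 12, 34, 9, 4, 3, 2]] 120959 = true := by decide +kernel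

theorem sg4 : chkSig 416 9 row 9 p4 key [56, 56, 360] = true := by decide +kernel

theorem wd4 : chkW 416 9 gens p4 [2, 5, 4, 1, 0, 5, 3, 1, 5, 2, 2, 5, 4, 1, 0, 5, 3, 1, 2, 5] = true := by decide +kernel

theorem bd5 : chkB 416 9 row 9 p5 [(false, 2)]
    [.base 0 1 2, .cell [(true, 1), (true, 0), (false, 2)], .base 0 60 4, .cell [(true, 4), (true, 2), (true, 0)], .base 0 149 4, .cell [(true, 10), (true, 5), (true, 2), (true, 1), (false, 11), (false, 12)], .cnt 0 [0], .cell [(true, 3), (false, 13), (true, 0), (false, 12), (false, 9), (false, 7), (false, 10), (false, 5), (false, 2), (false, 8)], .cnt 0 [1, 2, 0, 3], .cnt 0 [8, 11, 6, 7, 10, 5, 12, 14, 2, 16, 21, 24], .cnt 4 [3, 2, 1, 0, 4], .cell [(true, 14), (true, 34), (true, 20), (false, 32)], .cnt 0 [0], .cell [(true, 16), (true, 21), (false, 5), (false, 27)], .cnt 0 [0], .fin [24, 6, 31, 36, 26, 29, 0, 2, 7, 34, 35, 28, 8, 23, 30, 20, 16, 19, 38, 33, 4, 15, 40, 22, 18, 10, 5]] 1535 = true := by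 decide +kernel

theorem sg5 : chkSig 416 9 row 9 p5 key [0, 32, 32] = true := by decide +kernel

theorem wd5 : chkW 416 9 gens p5 [2, 5, 4, 1, 0, 5, 3, 1, 3, 1, 2, 1, 2, 5, 4, 1, 0, 5, 3, 1, 1, 2, 1, 3] = true := by decide +kernel

theorem bd6 : chkB 416 9 row 9 p6 [(false, 2), (true, 1)]
    [.cell [(false, 0), (false, 1)], .base 0 0 4, .cell [(true, 1), (true, 0), (true, 5)], .cnt 0 [2, 0, 3, 5, 1, 4], .cell [(true, 13), (true, 10), (true, 5)], .cnt 0 [0, 1, 2], .cell [(true, 17), (true, 1), (false, 13)], .base 0 142 2, .cell [(true, 11), (true, 5), (false, 19), (false, 1), (false, 0), (false, 16), (false, 17)], .cnt 0 [1, 2, 3], .cnt 0 [7, 10, 6, 9, 8, 13, 12, 5, 15, 4, 16, 11, 27], .cell [(true, 12), (true, 17), (true, 22), (false, 36), (false, 33)], .cnt 0 [0, 1], .cell [(true, 7), (true, 28), (false, 36), (false, 21)], .cnt 0 [0], .cell [(true, 15), (true, 39), (true, 36), (false, 41)], .cnt 0 [0], .cell [(true, 31), (true, 17), (true, 43)], .cnt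 0 [0], .fin [31, 7, 24, 44, 38, 4, 2, 42, 0, 27, 41, 26, 23, 34, 21, 18, 17, 19, 20, 11, 16, 6, 14, 46, 13, 9]] 1023 = true := by decide +kernel

theorem sg6 : chkSig 416 9 row 9 p6 key [0, 32, 128] = true := by decide +kernel

theorem wd6 : chkW 416 9 gens p6 [2, 5, 4, 1, 0, 5, 3, 1, 2, 3, 2, 1, 5, 3, 4, 0, 3, 2, 1, 2, 5, 4, 1, 0, 5, 3, 1, 1, 2, 3, 0, 4, 3, 5, 1, 2, 3, 2] = true := by decide +kernel

theorem bd7 : chkB 416 9 row 9 p7 [(false, 1), (false, 2), (true, 1)]
    [.cell [(false, 0), (false, 1)], .base 0 0 4, .cell [(true, 3), (true, 0), (true, 5)], .base 0 53 4, .cell [(true, 8), (true, 6), (true, 1), (false, 11), (false, 2)], .base 0 375 4, .cell [(true, 10), (true, 2), (true, 15), (false, 5), (false, 8), (false, 3), (false, 13), (false, 1)], .cnt 0 [1, 2, 0], .cell [(true, 10), (true, 2), (false, 7), (false, 11), (true, 19), (false, 16)], .cnt 0 [0], .cell [(true, 3), (false, 21), (false, 8), (false, 12), (false, 16), (false, 13), (true,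 0), (false, 19)], .cnt 0 [1, 2, 0], .cell [(true, 1), (true, 8), (true, 25), (false, 10), (false, 23), (true, 4), (false, 20), (false, 16), (false, 11)], .cnt 0 [0], .cell [(true, 24), (true, 23), (true, 26), (true, 19)], .cnt 0 [0], .fin [29, 6, 12, 14, 0, 15, 8, 26, 2, 19, 22, 17, 27, 25, 20, 5, 21, 24, 31, 30, 16, 11, 4]] 3071 = true := by decide +kernel

theorem sg7 : chkSig 416 9 row 9 p7 key [16, 32, 256] = true := by decide +kernel

theorem wd7 : chkW 416 9 gens p7 [2, 5, 4, 1, 0, 5, 3, 1, 0, 2, 5, 4, 1, 0, 5, 3, 1, 0] = true := by decide +kernel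

theorem bd8 : chkB 416 9 row 9 p8 [(false, 1), (true, 1), (true, 2)]
    [.base 1 27 5, .cell [(true, 5), (true, 4), (true, 3), (false, 0)], .base 0 249 5, .cell [(true, 3), (false, 9), (false, 7), (false, 11), (false, 6), (false, 8), (false, 12), (false, 1), (false, 0)], .cnt 0 [1, 0, 2], .cell [(true, 15), (true, 11), (true, 2), (false, 5), (false, 8), (false, 6)], .cnt 0 [0], .cell [(true, 4), (false, 17), (false, 18), (true, 0), (false, 6), (false, 7), (false, 16), (false, 14), (false, 13), (false, 15), (false, 12), (false, 10), (false, 9), (false, 8)], .cnt 0 [2, 5, 1, 3, 4, 0], .cnt 3 [14, 7, 12, 13, 2, 11, 16, 3, 4, 15, 18], .cell [(true, 0), (true, 33), (true, 22), (false, 36)], .cnt 0 [0], .fin [24, 18, 32, 0, 30, 20, 36, 29, 38, 15, 26, 33, 37, 34, 17, 22, 35, 10, 9, 6, 16, 3, 11, 8, 14, 7, 4, 2]] 299 = true := by decide +kernel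

theorem sg8 : chkSig 416 9 row 9 p8 key [1, 1, 0] = true := by decide +kernel

theorem wd8 : chkW 416 9 gens p8 [2, 5, 4, 1, 0, 5, 3, 1, 3, 1, 2, 5, 4, 1, 0, 5, 3, 1, 1, 3] = true := by decide +kernel

theorem bd9 : chkB 416 9 row 9 p9 [(false, 1), (true, 1), (true, 2)]
    [.cell [(true, 0), (false, 1)], .base 0 2 5, .cell [(true, 4), (true, 3), (true, 2), (false, 1)], .cnt 0 [0], .cell [(true, 2), (true, 8), (true, 9), (false, 5), (false, 6), (false, 0)], .base 0 54 5, .cell [(true, 13), (true, 6), (false, 9), (false, 2), (false, 3), (false, 1), (false, 0), (false, 4), (false, 10), (false, 8)], .cnt 0 [3, 2, 4, 1, 5], .cnt 0 [5, 6, 4, 8, 11, 7, 12, 1, 10, 15, 17], .cnt 6 [2, 3, 4, 7], .fin [36, 27, 35, 19, 22, 2, 32, 33, 23, 18, 29, 1, 25, 30, 31, 17, 24, 14, 8, 11, 6, 3, 13, 12, 10, 5, 16, 15, 9, 7, 4, 0]] 299 = true := by decide +kernel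

theorem sg9 : chkSig 416 9 row 9 p9 key [6, 6, 0] = true := by decide +kernel

theorem wd9 : chkW 416 9 gens p9 [2, 5, 4, 1, 0, 5, 3, 1, 1, 2, 5, 4, 1, 0, 5, 3, 1, 1] = true := by decide +kernel

theorem bd10 : chkB 416 9 row 9 p10 [(false, 1), (false, 2), (false, 3), (true, 1), (true, 2)]
    [.cell [(true, 0), (true, 1)], .base 0 32 6, .cell [(true, 3), (false, 5), (false, 2), (false, 4), (false, 1), (false, 8), (false, 7)], .cnt 0 [2, 1, 5, 3, 6, 4, 0], .cell [(true, 10), (true, 3), (false, 8), (false, 11)], .cnt 0 [1, 2, 0], .cell [(true, 10), (true, 2), (false, 16), (false, 13), (false, 17), (false, 14), (false, 21), (false, 20), (false, 15)], .cnt 0 [2, 3, 4, 1, 5, 0], .cell [(true, 3), (true, 14), (true, 9), (false, 22), (false, 19), (false, 26), (false, 23)], .cnt 0 [1, 2, 0, 3], .cnt 16 [6, 7, 5, 8, 10, 14, 19], .cell [(true, 5), (true, 33), (true, 24), (false, 35)], .cnt 0 [0], .fin [12, 23, 28, 19, 33, 0, 38, 37, 18, 11, 36, 22, 34, 6, 7,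 8, 31, 40, 17, 5, 42, 21, 10, 4, 3, 2]] 23 = true := by decide +kernel

theorem sg10 : chkSig 416 9 row 9 p10 key [1, 5, 76] = true := by decide +kernel

theorem wd10 : chkW 416 9 gens p10 [2, 5, 4, 1, 0, 5, 3, 1, 3, 2, 3, 1, 2, 5, 4, 1, 0, 5, 3, 1, 1, 3, 2, 3] = true := by decide +kernel

theorem bd11 : chkB 416 9 row 9 p11 [(false, 1), (false, 2), (false, 3), (true, 1)]
    [.cell [(false, 0), (false, 2)], .base 0 2 6, .cell [(true, 3), (true, 2), (true, 0), (false, 8), (false, 1)], .base 0 201 6, .cell [(true, 8), (true, 0), (true, 14), (false, 10), (false, 4), (false, 12), (false, 15)], .cnt 0 [1, 0], .cell [(true, 12), (true, 11), (true, 1), (true, 7), (false, 3)], .cnt 0 [0], .cell [(true, 16), (false, 0), (true, 3), (true, 19)], .cnt 0 [0], .cell [(true, 18), (true, 21), (true, 4), (false, 10), (false, 19), (false, 22), (false, 8), (false, 17), (false, 14)], .cnt 0 [0], .cell [(false, 2), (true, 6), (true, 22), (true, 4), (false, 21), (false,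 12), (false, 19), (false, 18)], .cnt 0 [0], .cell [(true, 15), (false, 0), (true, 11), (true, 25), (false, 20)], .cnt 0 [0], .cell [(true, 22), (true, 11), (true, 18), (true, 27), (true, 8), (false, 23), (false, 20)], .cnt 0 [0], .fin [28, 12, 0, 4, 27, 10, 26, 2, 18, 16, 17, 6, 22, 8, 20, 15, 13, 19, 24, 25, 23]] 383 = true := by decide +kernel

theorem sg11 : chkSig 416 9 row 9 p11 key [8, 56, 168] = true := by decide +kernel

theorem wd11 : chkW 416 9 gens p11 [2, 5, 4, 1, 0, 5, 3, 1, 2, 4, 3, 5, 2, 5, 4, 1, 0, 5, 3, 1, 5, 3, 4, 2] = true := by decide +kernel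

theorem bd12 : chkB 416 9 row 9 p12 [(false, 1), (true, 1), (true, 2)]
    [.cell [(true, 1), (true, 0)], .base 0 48 7, .cell [(true, 5), (true, 2), (true, 1), (false, 6), (false, 9)], .base 0 41 7, .cell [(true, 8), (true, 17), (true, 1), (false, 12), (false, 11)], .cnt 0 [1, 0], .cell [(true, 8), (true, 1), (true, 5), (true, 19)], .cnt 0 [0], .cell [(true, 22), (true, 2), (false, 10), (false, 18), (false, 15), (false, 9), (false, 11), (false, 19), (false, 13), (false, 8), (true, 0)], .cnt 0 [1, 0], .cell [(true, 22), (true, 6), (true, 11), (false, 16), (false, 8)], .cnt 0 [0], .cell [(true, 18), (true, 15), (false, 2), (false, 24), (false, 19), (false, 11)], .cnt 0 [0], .cell [(true, 16), (false, 7), (true, 29), (false, 20)], .cnt 0 [0], .fin [11, 6, 31, 30, 9, 20, 2, 24, 0, 28, 26, 4, 15, 16, 18, 17, 7, 12, 27, 19, 14, 25]] 41 = true := by decide +kernel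

theorem sg12 : chkSig 416 9 row 9 p12 key [3, 3, 140] = true := by decide +kernel

theorem wd12 : chkW 416 9 gens p12 [2, 5, 4, 1, 0, 5, 3, 1, 4, 5, 1, 2, 5, 4, 1, 0, 5, 3, 1, 1, 5, 4] = true := by decide +kernel

theorem bd13 : chkB 416 9 row 9 p13 [(false, 4), (true, 1), (true, 2), (true, 3)]
    [.cell [(true, 2), (false, 0)], .base 0 17 8, .cell [(true, 2), (false, 3), (false, 1), (false, 10), (false, 9), (false, 6), (false, 4), (false, 0)], .cnt 0 [0, 1, 3, 2, 4], .cell [(true, 8), (true, 15), (true, 7), (false, 17), (false, 2)], .cnt 0 [0], .cell [(true, 11), (true, 6), (false, 12), (false, 17), (false, 18), (false, 15), (false, 13), (false, 9)], .cnt 0 [1, 2, 0, 3], .cell [(true, 21), (true, 10), (true, 2), (true, 19)], .cnt 0 [0], .cell [(true, 4), (true, 19), (true, 24), (true, 18), (false, 13)], .cnt 0 [0], .cell [(true, 20), (true, 18), (true, 14), (true, 27), (true, 7)], .cnt 0 [0], .fin [7, 30, 29, 17, 4, 11, 2, 0, 24, 26, 9, 16, 28, 23,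 25, 14, 8, 19, 15, 21, 6, 22]] 63 = true := by decide +kernel

theorem sg13 : chkSig 416 9 row 9 p13 key [0, 0, 128] = true := by decide +kernel

theorem wd13 : chkW 416 9 gens p13 [2, 5, 4, 1, 0, 5, 3, 1, 5, 0, 1, 2, 5, 4, 1, 0, 5, 3, 1, 1, 0, 5] = true := by decide +kernel

theorem bd14 : chkB 416 9 row 9 p14 [(false, 1), (false, 2), (false, 4), (true, 1), (true, 2), (true, 3)]
    [.cell [(true, 0), (false, 2), (true, 1)], .base 0 32 8, .cell [(true, 6), (true, 11), (false, 10), (true, 4), (true, 3)], .base 0 197 8, .cell [(true, 3), (true, 20), (false, 19), (false, 21), (false, 16), (false, 15)], .cnt 0 [0], .cell [(true, 16), (true, 14), (false, 21), (true, 8), (false, 24), (false, 22)], .cnt 0 [0], .cell [(true, 16), (true, 8), (false, 19), (false, 14), (false, 13), (true, 0), (false, 25), (false, 10)], .cnt 0 [0], .cell [(true, 16), (true, 7), (true, 11), (false, 27), (true, 4)], .cnt 0 [0], .cell [(true, 20), (true, 10), (false, 23), (true, 28),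 (false, 24)], .cnt 0 [0], .fin [29, 30, 0, 6, 4, 10, 28, 25, 13, 2, 15, 8, 23, 16, 17, 12, 24, 19, 26, 22, 14, 11]] 63 = true := by decide +kernel

theorem sg14 : chkSig 416 9 row 9 p14 key [4, 16, 112] = true := by decide +kernel

theorem wd14 : chkW 416 9 gens p14 [2, 5, 4, 1, 0, 5, 3, 1, 0, 3, 4, 2, 5, 4, 1, 0, 5, 3, 1, 4, 3, 0] = true := by decide +kernel

theorem bd15 : chkB 416 9 row 9 p15 [(false, 1), (false, 5), (true, 1), (true, 2), (true, 3), (true, 4)]
    [.cell [(true, 3), (true, 2)], .base 0 8 10, .cell [(true, 14), (true, 5), (false, 6), (false, 3), (false, 13), (true, 4)], .cnt 0 [0, 1], .cell [(true, 16), (true, 0), (true, 12), (false, 7), (false, 10)], .cnt 0 [0], .cell [(true, 19), (true, 3), (false, 18), (false, 12), (false, 7), (false, 14), (false, 11), (false, 10), (false, 9), (false, 8), (false, 6), (true, 0), (false, 13)], .cnt 0 [2, 1, 3], .cnt 0 [11, 6, 9, 10, 7, 17, 24], .cell [(true, 25), (true, 9), (true, 23), (true, 14),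 (false, 29), (false, 28)], .cnt 0 [0], .fin [16, 10, 32, 26, 18, 31, 21, 0, 13, 20, 24, 23, 19, 30, 25, 11, 27, 8, 7, 9, 4, 33, 15, 22, 6, 5, 3, 2]] 19 = true := by decide +kernel

theorem sg15 : chkSig 416 9 row 9 p15 key [1, 1, 160] = true := by decide +kernel

theorem wd15 : chkW 416 9 gens p15 [2, 5, 4, 1, 0, 5, 3, 1, 3, 2, 4, 2, 5, 4, 1, 0, 5, 3, 1, 4, 2, 3] = true := by decide +kernel

theorem bd16 : chkB 416 9 row 9 p16 [(false, 1), (false, 2), (false, 5), (true, 1), (true, 2)]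
    [.cell [(true, 2), (false, 0), (false, 4)], .base 0 14 5, .cell [(true, 2), (true, 7), (false, 6), (true, 1)], .base 0 202 10, .cell [(true, 13), (true, 0), (true, 17), (false, 9), (false, 5), (false, 2)], .cnt 0 [1, 0], .cell [(true, 23), (true, 1), (false, 24)], .cnt 0 [0], .cnt 26 [0], .cell [(true, 12), (true, 24), (false, 23), (true, 11), (false, 25)], .cnt 0 [0], .cell [(true, 27), (true, 16), (false, 20), (true, 25)], .cnt 0 [0], .fin [27, 4, 7, 28, 2, 18, 25, 14, 5, 13, 19, 17, 15, 21, 24, 10, 12, 11, 8, 0, 30, 23]] 19 = true := by decide +kernel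

theorem sg16 : chkSig 416 9 row 9 p16 key [2, 6, 0] = true := by decide +kernel

theorem wd16 : chkW 416 9 gens p16 [2, 5, 4, 1, 0, 5, 3, 1, 2, 5, 1, 2, 5, 4, 1, 0, 5, 3, 1, 1, 5, 2] = true := by decide +kernel

theorem bd17 : chkB 416 9 row 9 p17 [(false, 2), (false, 4), (false, 6), (true, 1), (true, 2), (true, 5)]
    [.cell [(false, 1), (false, 4), (false, 2), (false, 0)], .base 0 15 12, .cell [(true, 9), (true, 0), (true, 15), (false, 8)], .cnt 0 [0], .cell [(true, 13), (true, 8), (true, 2), (true, 15)], .cnt 0 [0], .cell [(true, 14), (true, 7), (true, 4), (false, 8), (false, 12)], .cnt 0 [0], .cell [(true, 23), (true, 15), (false, 4), (false, 16), (false, 14), (true, 0)], .cnt 0 [0, 1], .cell [(true, 17), (true, 14), (true, 12), (true, 1)], .cnt 0 [0], .cell [(true, 28), (true, 2), (false, 20), (false, 21), (false, 22), (false, 19), (false, 29)], .cnt 0 [0], .cell [(true, 23), (false, 2), (true, 4), (true, 28), (false, 19)], .cnt 0 [0], .fin [7,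 29, 30, 11, 19, 4, 25, 13, 18, 2, 17, 26, 9, 27, 24, 23, 22, 0, 20]] 95 = true := by decide +kernel

theorem sg17 : chkSig 416 9 row 9 p17 key [0, 8, 104] = true := by decide +kernel

theorem wd17 : chkW 416 9 gens p17 [2, 5, 4, 1, 0, 5, 3, 1, 2, 0, 1, 0, 3, 2, 5, 4, 1, 0, 5, 3, 1, 3, 0, 1, 0, 2] = true := by decide +kernel

theorem bd18 : chkB 416 9 row 9 p18 [(false, 2), (false, 4), (false, 6), (true, 1), (true, 2), (true, 5)]
    [.cell [(false, 1), (false, 4), (false, 2), (false, 0)], .base 0 14 12, .cell [(true, 7), (true, 6), (true, 5), (true, 2)], .cnt 0 [0], .cell [(true, 7), (true, 5), (true, 2), (false, 13), (false, 9)], .cnt 0 [0], .cell [(true, 21), (true, 12), (true, 0), (false, 22), (false, 13), (false, 15), (true, 2)], .cnt 0 [1, 2], .cell [(true, 14), (true, 10), (true, 21), (true, 5), (false, 7), (false, 23), (false, 13)], .cnt 0 [0, 1], .cell [(true, 3), (true, 20), (true, 24), (false, 25), (false, 10)], .cnt 0 [0], .cell [(true, 5),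 (true, 21), (true, 17), (true, 26)], .cnt 0 [0], .fin [28, 5, 8, 29, 22, 24, 10, 12, 0, 19, 17, 15, 20, 14, 2, 26, 25, 23, 31, 7, 4, 30]] 95 = true := by decide +kernel

theorem sg18 : chkSig 416 9 row 9 p18 key [0, 8, 104] = true := by decide +kernel

theorem wd18 : chkW 416 9 gens p18 [2, 5, 4, 1, 0, 5, 3, 1, 2, 1, 0, 1, 3, 0, 2, 5, 4, 1, 0, 5, 3, 1, 0, 3, 1, 0, 1, 2] = true := by decide +kernel

theorem bd19 : chkB 416 9 row 9 p19 [(false, 1), (false, 2), (false, 3), (false, 4), (false, 6), (true, 1), (true, 2)]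
    [.cell [(true, 1), (false, 2), (false, 3)], .base 0 18 12, .cell [(true, 11), (true, 10), (true, 13), (false, 9), (false, 2), (false, 8), (false, 6), (false, 15)], .base 0 134 12, .cell [(true, 24), (true, 22), (true, 26), (true, 23), (true, 21), (false, 20), (false, 9)], .cnt 0 [0], .cell [(true, 22), (true, 11), (false, 23), (true, 9), (false, 25), (false, 19)], .cnt 0 [0], .cell [(true, 13), (true, 8), (true, 11), (false, 23), (false, 15)], .cnt 0 [0], .fin [32, 30, 28, 14, 9, 23, 12, 13, 7, 2, 8, 24, 4, 0, 22, 25, 33, 16, 21, 19, 27, 37, 17, 11]] 95 = true := by decide +kernel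

theorem sg19 : chkSig 416 9 row 9 p19 key [4, 8, 88] = true := by decide +kernel

theorem wd19 : chkW 416 9 gens p19 [2, 5, 4, 1, 0, 5, 3, 1, 4, 3, 2, 5, 4, 1, 0, 5, 3, 1, 3, 4] = true := by decide +kernel

theorem bd20 : chkB 416 9 row 9 p20 [(true, 1), (true, 2), (true, 3), (true, 4)]
    [.cell [(true, 2), (true, 1), (false, 3)], .base 0 5 12, .cell [(true, 6), (true, 16), (false, 15), (false, 0)], .cnt 0 [1, 0], .cell [(true, 19), (true, 1), (false, 18), (false, 16), (false, 13), (false, 11), (false, 10), (false, 8), (false, 9), (false, 4), (false, 3), (false, 14), (false, 7), (false, 5)], .cnt 0 [3, 2, 5, 0, 4], .cnt 2 [10, 7, 9, 16, 19, 3, 5, 6, 15, 17, 20], .cnt 2 [3, 1, 2], .fin [20, 37, 38, 25, 2, 33, 24, 34, 18, 0, 32, 36, 1, 17, 39, 23, 28, 14, 13, 12, 27, 9, 10, 26, 5, 31, 16, 4, 3]] 12 = true := by decide +kernel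

theorem sg20 : chkSig 416 9 row 9 p20 key [0, 0, 104] = true := by decide +kernel

theorem wd20 : chkW 416 9 gens p20 [2, 5, 4, 1, 0, 5, 3, 1, 5, 2, 5, 4, 1, 0, 5, 3, 1, 5] = true := by decide +kernel

theorem bd21 : chkB 416 9 row 9 p21 [(false, 3), (false, 5), (true, 1), (true, 2)]
    [.cnt 2 [0, 1, 2, 3], .cell [(true, 1), (true, 4)], .base 0 96 12, .cell [(true, 11), (true, 2), (true, 15), (false, 1)], .cnt 0 [1, 0], .cell [(true, 21), (false, 20), (true, 0), (true, 19), (false, 13), (false, 10), (false, 8), (false, 3), (false, 7)], .cnt 0 [2, 5, 4, 6, 0], .cnt 3 [6, 7, 11, 3, 8, 17, 19, 20], .fin [14, 33, 27, 18, 26, 23, 20, 22, 21, 17, 24, 25, 28, 6, 7, 10, 35, 11, 32, 9, 12, 8, 5, 19, 2, 1, 4, 3, 0]] 14 = true := by decide +kernel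

theorem sg21 : chkSig 416 9 row 9 p21 key [0, 0, 60] = true := by decide +kernel

theorem wd21 : chkW 416 9 gens p21 [2, 5, 4, 1, 0, 5, 3, 1, 1, 0, 2, 5, 4, 1, 0, 5, 3, 1, 0, 1] = true := by decide +kernel

theorem bd22 : chkB 416 9 row 9 p22 [(false, 1), (false, 5), (true, 1), (true, 2)]
    [.cell [(true, 1), (true, 0)], .base 0 15 12, .cell [(true, 13), (false, 11), (false, 5), (false, 2), (false, 8), (false, 15), (false, 1), (false, 0), (false, 10), (false, 9), (false, 6), (false, 7), (false, 4), (false, 3)], .cnt 0 [5, 6, 7, 4, 10, 8], .cell [(true, 0), (true, 8), (false, 21), (false, 20)], .cnt 0 [0, 1], .cnt 4 [1, 4, 2, 5], .cell [(true, 11), (true, 15), (true, 27), (false, 16)], .cnt 0 [0], .cell [(true, 14), (true, 3), (false, 7), (true, 16)], .cnt 0 [0], .fin [9, 7, 26, 18, 22, 0, 25, 31, 2, 15, 5, 27, 20, 14, 29, 32, 6, 16, 23, 19, 24, 17, 8, 4, 11]] 14 = true := by decide +kernel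

theorem sg22 : chkSig 416 9 row 9 p22 key [1, 1, 360] = true := by decide +kernel

theorem wd22 : chkW 416 9 gens p22 [2, 5, 4, 1, 0, 5, 3, 1, 2, 2, 5, 4, 1, 0, 5, 3, 1, 2] = true := by decide +kernel

theorem bd23 : chkB 416 9 row 9 p23 [(false, 3), (false, 7), (true, 1), (true, 2), (true, 3), (true, 4), (true, 5), (true, 6)]
    [.cell [(true, 4), (true, 0)], .base 0 36 12, .cell [(true, 1), (true, 16), (false, 15), (false, 9), (false, 8), (false, 14), (false, 7), (false, 3), (false, 4)], .cnt 0 [1, 0], .cell [(true, 5), (true, 16), (true, 1), (false, 12), (false, 3), (false, 21), (false, 13), (false, 11)], .cnt 0 [0], .cell [(true, 16), (true, 13), (true, 11), (false, 20), (false, 21)], .cnt 0 [0], .cell [(true, 14), (true, 5), (false, 8), (false, 7), (false, 18), (false, 23), (false, 17)], .cnt 0 [0], .cell [(true, 18), (true, 15), (true, 22), (false, 26)], .cnt 0 [0], .fin [8, 27, 24, 2, 14, 6, 0, 22, 12, 17, 25, 15, 16, 11, 18, 30, 19, 4, 9, 21,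 13, 29]] 20 = true := by decide +kernel

theorem sg23 : chkSig 416 9 row 9 p23 key [0, 0, 80] = true := by decide +kernel

theorem wd23 : chkW 416 9 gens p23 [2, 5, 4, 1, 0, 5, 3, 1, 2, 3, 2, 5, 4, 1, 0, 5, 3, 1, 3, 2] = true := by decide +kernel

end Cfsg.Agent.H137.G24
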