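import Cfsg.Agent.H137.G24.Mdl
import Cfsg.Agent.H264.TC.Sylow
import Cfsg.Agent.H210.TC.Row
import Cfsg.Agent.ChevalleyStructure.FieldIso

/-!
# S2464 and S2452, the row `G₂(4)` (helper137)

Every nontrivial element of `G₂(4)` is a product of two elements of order 7: 24 classes under `G₂(4):2`
(class equation certificate of helper123 on 416 points), the factorizations are explicit words.
-/

set_option autoImplicit false
set_option maxRecDepth 1000000
set_option exponentiation.threshold 5000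
set_option Elab.async false

namespace Cfsg.Agent.H137.G24

open Equiv Subgroup Cfsg.Agent.H123.Cls Cfsg.Agent.Lib.BitNet
open Cfsg.Agent.SporRec.G24Mat Cfsg.Agent.SporRec.GF4
open Cfsg.Agent.Lib.BitNetSimple (force force_eq tb tb_eq)

/-- the conjugating words -/
def wl (i : ℕ) : List (Fin 6) :=
  [[5, 2, 4],
    [2, 3, 2, 1, 2, 3, 2, 0, 4, 3],
    [3],
    [4],
    [5, 2],
    [3, 1, 2, 1],
    [2, 3, 2, 1, 5, 3, 4, 0, 3, 2, 1],
    [0],
    [3, 1],
    [1],
    [3, 2, 3, 1],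
    [2, 4, 3, 5],
    [4, 5, 1],
    [5, 0, 1],
    [0, 3, 4],
    [3, 2, 4],
    [2, 5, 1],
    [2, 0, 1, 0, 3],
    [2, 1, 0, 1, 3, 0],
    [4, 3],
    [5],
    [1, 0],
    [2],
    [2, 3]].getD i []

/-- the tables -/
noncomputable def pl (i : ℕ) : ℕ :=
  [p0, p1, p2, p3, p4, p5, p6, p7, p8, p9, p10, p11, p12, p13, p14, p15, p16, p17, p18, p19, p20, p21, p22, p23].getD i 0

/-- the bounds minus one -/
def cl (i : ℕ) : ℕ :=
  [503193599, 7679, 122879, 359, 120959, 1535, 1023, 3071, 299, 299, 23, 383, 41, 63, 63, 19, 19, 95, 95, 95, 12, 14, 14, 20].getD i 0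

/-- the invariants -/
def sl (i : ℕ) : List ℕ :=
  [[416, 416, 0], [16, 416, 160], [32, 416, 0], [5, 5, 60], [56, 56, 360], [0, 32, 32], [0, 32, 128], [16, 32, 256], [1, 1, 0], [6, 6, 0], [1, 5, 76], [8, 56, 168], [3, 3, 140], [0, 0, 128], [4, 16, 112], [1, 1, 160], [2, 6, 0], [0, 8, 104], [0, 8, 104], [4, 8, 88], [0, 0, 104], [0, 0, 60], [1, 1, 360], [0, 0, 80]].getD i []

/-- the representative -/
noncomputable def rp (i : ℕ) : Perm (Fin 416) := W (wX ++ (wl i ++ (wX ++ (wl i).reverse)))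

theorem rp_mem (i : ℕ) : rp i ∈ N := W_mem _

theorem rp_eq (i : ℕ) : rp i = (1 * W wX * 1⁻¹) * (W (wl i) * W wX * (W (wl i))⁻¹) := by
  rw [rp, W_append, W_append, W_append, W_reverse]
  group

theorem rp_tab : ∀ i < 24, ∀ p : Fin 416, (rp i p : ℕ) = lk 9 (pl i) p := by
  intro i hi
  interval_cases i
  · exact W_of_chkW wd0
  · exact W_of_chkW wd1
  · exact W_of_chkW wd2
  · exact W_of_chkW wd3
  · exact W_of_chkW wd4
  · exact W_of_chkW wd5
  · exact W_of_chkW wd6
  · exact W_of_chkW wd7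
  · exact W_of_chkW wd8
  · exact W_of_chkW wd9
  · exact W_of_chkW wd10
  · exact W_of_chkW wd11
  · exact W_of_chkW wd12
  · exact W_of_chkW wd13
  · exact W_of_chkW wd14
  · exact W_of_chkW wd15
  · exact W_of_chkW wd16
  · exact W_of_chkW wd17
  · exact W_of_chkW wd18
  · exact W_of_chkW wd19
  · exact W_of_chkW wd20
  · exact W_of_chkW wd21
  · exact W_of_chkW wd22
  · exact W_of_chkW wd23

theorem pl_bd : ∀ i < 24, ∃ l L, chkB 416 9 row 9 (pl i) l L (cl i) = true := by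
  intro i hi
  interval_cases i
  · exact ⟨_, _, bd0⟩
  · exact ⟨_, _, bd1⟩
  · exact ⟨_, _, bd2⟩
  · exact ⟨_, _, bd3⟩
  · exact ⟨_, _, bd4⟩
  · exact ⟨_, _, bd5⟩
  · exact ⟨_, _, bd6⟩
  · exact ⟨_, _, bd7⟩
  · exact ⟨_, _, bd8⟩
  · exact ⟨_, _, bd9⟩
  · exact ⟨_, _, bd10⟩
  · exact ⟨_, _, bd11⟩
  · exact ⟨_, _, bd12⟩
  · exact ⟨_, _, bd13⟩
  · exact ⟨_, _, bd14⟩
  · exact ⟨_, _, bd15⟩
  · exact ⟨_, _, bd16⟩
  · exact ⟨_, _, bd17⟩
  · exact ⟨_, _, bd18⟩
  · exact ⟨_, _, bd19⟩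
  · exact ⟨_, _, bd20⟩
  · exact ⟨_, _, bd21⟩
  · exact ⟨_, _, bd22⟩
  · exact ⟨_, _, bd23⟩

theorem pl_sg : ∀ i < 24, chkSig 416 9 row 9 (pl i) key (sl i) = true := by
  intro i hi
  interval_cases i
  · exact sg0
  · exact sg1
  · exact sg2
  · exact sg3
  · exact sg4
  · exact sg5
  · exact sg6
  · exact sg7
  · exact sg8
  · exact sg9
  · exact sg10
  · exact sg11
  · exact sg12
  · exact sg13
  · exact sg14
  · exact sg15
  · exact sg16
  · exact sg17
  · exact sg18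
  · exact sg19
  · exact sg20
  · exact sg21
  · exact sg22
  · exact sg23

theorem sl_len : ∀ i < 24, (sl i).length = key.length := by decide

theorem sl_chk : ((List.range 24).all fun i => (List.range 24).all fun j => decide (i = j) ||
    (decide (i = 17) && decide (j = 18)) || (decide (i = 18) && decide (j = 17)) || !(decide (sl i = sl j))) = true := by
  decide +kernel

theorem sl_ne : ∀ i < 24, ∀ j < 24, i ≠ j → ¬ (i = 17 ∧ j = 18) → ¬ (i = 18 ∧ j = 17) → sl i ≠ sl j := by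
  intro i hi j hj hij h1 h2 h3
  have h4 := List.all_eq_true.1 (List.all_eq_true.1 sl_chk i (List.mem_range.2 hi)) j (List.mem_range.2 hj)
  simp only [Bool.or_eq_true, Bool.and_eq_true, decide_eq_true_eq, Bool.not_eq_true', decide_eq_false_iff_not] at h4
  tauto

/-! ### the two classes of elements of order 12 with the same fixed points -/

/-- number of common neighbours of `p`, `r p`, `r ^ 3 p` -/
noncomputable def tri (r : Perm (Fin 416)) (p : Fin 416) : ℕ :=
  Nat.card {q : Fin 416 // (row p).testBit q = true ∧ (row (r p)).testBit q = true ∧ (row ((r ^ 3) p : Fin 416)).testBit q = true}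

/-- the same by table -/
noncomputable def triF (P p : ℕ) : ℕ :=
  popF 9 (Nat.land (row p) (Nat.land (row (lk 9 P p)) (row (lk 9 P (lk 9 P (lk 9 P p))))))

theorem tri_conj {σ : Perm (Fin 416)} (hσ : σ ∈ Aut 416 row) (r : Perm (Fin 416)) (p : Fin 416) :
    tri (σ * r * σ⁻¹) (σ p) = tri r p := by
  unfold tri
  have h3 : ((σ * r * σ⁻¹) ^ 3) (σ p) = σ ((r ^ 3) p) := by
    rw [conj_pow, Perm.mul_apply, Perm.mul_apply]
    exact congrArg (fun q => σ ((r ^ 3) q)) (Equiv.symm_apply_apply σ p)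
  have h1 : (σ * r * σ⁻¹) (σ p) = σ (r p) := by
    rw [Perm.mul_apply, Perm.mul_apply]
    exact congrArg (fun q => σ (r q)) (Equiv.symm_apply_apply σ p)
  rw [h3, h1]
  refine (Nat.card_congr (Equiv.subtypeEquiv σ fun q => ?_)).symm
  rw [hσ p q, hσ (r p) q, hσ ((r ^ 3) p) q]

theorem triF_eq {P : ℕ} {r : Perm (Fin 416)} (hr : ∀ i, (r i : ℕ) = lk 9 P i) (p : Fin 416) : triF P p = tri r p := by
  unfold triF tri
  set M := Nat.land (row p) (Nat.land (row (lk 9 P p)) (row (lk 9 P (lk 9 P (lk 9 P p))))) with hM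
  have hbit : ∀ i, M.testBit i = true ↔ ((row p).testBit i = true ∧ (row (r p)).testBit i = true ∧
      (row ((r ^ 3) p : Fin 416)).testBit i = true) := by
    intro i
    have h3 : (((r ^ 3) p : Fin 416) : ℕ) = lk 9 P (lk 9 P (lk 9 P p)) := by
      rw [pow_succ, pow_succ, pow_one, Perm.mul_apply, Perm.mul_apply, hr, hr, hr]
    rw [h3, hr p]
    show ((row p) &&& ((row (lk 9 P p)) &&& (row (lk 9 P (lk 9 P (lk 9 P p)))))).testBit i = true ↔ _
    rw [Nat.testBit_and, Nat.testBit_and, Bool.and_eq_true, Bool.and_eq_true]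
  have hlt : ∀ i, M.testBit i = true → i < 416 := fun i hi => row_lt ((hbit i).1 hi).1
  rw [popF_eq]
  have h1 := card_pts_le (n := 416) (K := 9) (by norm_num) M
  have h2 := card_pts_eq (n := 416) (K := 9) (x := M) hlt
  rw [le_antisymm h2 h1, ← Fintype.card_coe, ← Nat.card_eq_fintype_card]
  exact Nat.card_congr (Equiv.subtypeEquivRight fun i => by rw [mem_pts, hbit])

theorem tri17 : allN (fun p => cnd (Nat.beq (triF p17 p) 4) false true) 416 = true := by decide +kernel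

theorem tri18 : ∃ p < 416, Nat.beq (triF p18 p) 4 = true := ⟨14, by norm_num, by decide +kernel⟩

theorem not_conj {σ : Perm (Fin 416)} (hσ : σ ∈ Aut 416 row) (h : σ * rp 17 * σ⁻¹ = rp 18) : False := by
  obtain ⟨p, hp, h4⟩ := tri18
  have h5 := Nat.eq_of_beq_eq_true h4
  have h6 := triF_eq (rp_tab 18 (by norm_num)) ⟨p, hp⟩
  have h7 : triF (pl 18) p = 4 := h5
  rw [h7] at h6
  have h8 := tri_conj hσ (rp 17) (σ⁻¹ ⟨p, hp⟩)
  have h9 : σ (σ⁻¹ ⟨p, hp⟩) = (⟨p, hp⟩ : Fin 416) := Equiv.apply_symm_apply σ _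
  rw [h, h9, ← h6] at h8
  have h10 := triF_eq (rp_tab 17 (by norm_num)) (σ⁻¹ ⟨p, hp⟩)
  rw [← h8] at h10
  have h11 := (allN_iff _ _).1 tri17 (σ⁻¹ ⟨p, hp⟩ : Fin 416) (Fin.is_lt _)
  have h12 : triF p17 (σ⁻¹ ⟨p, hp⟩ : Fin 416) = 4 := h10
  rw [h12] at h11
  exact absurd h11 (by decide)

/-! ### the cover -/

theorem sum_eq : ∑ i : Fin 24, 503193600 / (cl i + 1) = 251596800 := by decide +kernel

theorem cover24 (g : Perm (Fin 416)) (hg : g ∈ N) : ∃ i < 24, ∃ a ∈ A, g = a * rp i * a⁻¹ := by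
  obtain ⟨i, a, ha, h⟩ := cover (A := A) (N := N) (fun a ha x hx => A_conj ha hx) (fun i : Fin 24 => rp i)
    (fun i => rp_mem i) (fun i => cl i + 1) (fun i => by
      obtain ⟨l, L, h1⟩ := pl_bd i i.2
      refine card_le_bound (by norm_num) (rp_tab i i.2) h1 (inf_le_left.trans A_le) fun σ hσ p => ?_
      have h2 := Subgroup.mem_centralizer_singleton_iff.1 (Subgroup.mem_inf.1 hσ).2
      exact congrArg (fun τ : Perm (Fin 416) => τ p) h2) (fun i j hij a ha h1 => by
      by_cases h2 : (i : ℕ) = 17 ∧ (j : ℕ) = 18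
      · rw [h2.1, h2.2] at h1
        exact not_conj (A_le ha) h1
      by_cases h3 : (i : ℕ) = 18 ∧ (j : ℕ) = 17
      · rw [h3.1, h3.2] at h1
        refine not_conj (A_le (A.inv_mem ha)) (σ := a⁻¹) ?_
        rw [← h1]
        group
      · refine sl_ne i i.2 j j.2 (fun h => hij (Fin.ext h)) h2 h3 ?_
        rw [← sig_of_chk (by norm_num) (rp_tab i i.2) (pl_sg i i.2) (sl_len i i.2),
          ← sig_of_chk (by norm_num) (rp_tab j j.2) (pl_sg j j.2) (sl_len j j.2)]
        refine List.map_congr_left fun k _ => ?_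
        rw [← h1, pwc_conj (A_le ha)]) (by
      rw [card_N, ← sum_eq]
      exact Finset.sum_le_sum fun i _ => Nat.div_le_div_right card_A) g hg
  exact ⟨i, i.2, a, ha, h⟩

/-! ### the elements of order 7 -/

/-- the element of order 7 -/
noncomputable def x : N := ⟨W wX, W_mem wX⟩

theorem x_tab : allN (fun p => Nat.beq (evw 9 gens (wX.map Fin.val) p) (evw 9 gens (wX.map Fin.val) p)) 416 = true := by
  decide +kernel

theorem seven_word : allN (fun p => Nat.beq (evw 9 gens ((wX ++ wX ++ wX ++ wX ++ wX ++ wX ++ wX).map Fin.val) p) p) 416 = true := by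
  decide +kernel

theorem W_seven : W wX ^ 7 = 1 := by
  have h : W (wX ++ wX ++ wX ++ wX ++ wX ++ wX ++ wX) = 1 := by
    ext p
    rw [W_tab, Perm.one_apply]
    exact Nat.eq_of_beq_eq_true ((allN_iff _ _).1 seven_word p p.2)
  rw [W_append, W_append, W_append, W_append, W_append, W_append] at h
  rw [← h]
  simp only [pow_succ, pow_zero, one_mul]

theorem order_x : orderOf x = 7 := by
  have : Fact (Nat.Prime 7) := ⟨by norm_num⟩
  refine orderOf_eq_prime (Subtype.ext W_seven) fun h => ?_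
  have h1 : W wX = 1 := congrArg Subtype.val h
  have h2 : allN (fun p => Nat.beq (evw 9 gens (wX.map Fin.val) p) p) 416 = false := by decide +kernel
  have h3 : allN (fun p => Nat.beq (evw 9 gens (wX.map Fin.val) p) p) 416 = true := by
    rw [allN_iff]
    intro i hi
    have h4 := W_tab wX ⟨i, hi⟩
    rw [h1] at h4
    change i = evw 9 gens (wX.map Fin.val) i at h4
    rw [← h4]
    exact Nat.beq_refl i
  rw [h2] at h3
  cases h3

/-- the word of the conjugating element -/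
abbrev wV : List (Fin 6) := [1, 5, 4, 2, 3, 0, 1, 0, 1, 2, 3, 4, 2, 3, 1, 2, 3, 0, 1, 2]

theorem conj_word : allN (fun p => Nat.beq (evw 9 gens ((wV ++ wX).map Fin.val) p)
    (evw 9 gens ((wX ++ wX ++ wX ++ wV).map Fin.val) p)) 416 = true := by decide +kernel

theorem x_cube : W wV * W wX * (W wV)⁻¹ = W wX ^ 3 := by
  have h : W (wV ++ wX) = W (wX ++ wX ++ wX ++ wV) := W_ext (W_tab _) conj_word
  rw [W_append, W_append, W_append, W_append] at h
  rw [h, mul_inv_cancel_right]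
  simp only [pow_succ, pow_zero, one_mul]

theorem conj_seven {y : N} (hy : orderOf y = 7) : ∃ u : N, y = u * x * u⁻¹ := by
  refine Cfsg.Agent.H264.TC.Sylow.conj_of_gen (p := 7) (m := 3) (t := (⟨W wV, W_mem wV⟩ : N)⁻¹) (by norm_num)
    (by rw [card_N]; norm_num) (by rw [card_N]; norm_num) order_x hy ?_ (by decide)
  have h : (⟨W wV, W_mem wV⟩ : N) * x * (⟨W wV, W_mem wV⟩ : N)⁻¹ = x ^ 3 := Subtype.ext x_cube
  rw [← h]
  group

theorem order_conj {a : Perm (Fin 416)} (ha : a ∈ A) (y : N) :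
    orderOf (⟨a * y * a⁻¹, A_conj ha y.2⟩ : N) = orderOf y := by
  rw [← Subgroup.orderOf_coe, ← Subgroup.orderOf_coe y]
  exact orderOf_injective (MulAut.conj a).toMonoidHom (MulAut.conj a).injective (y : Perm (Fin 416))

/-- **every nontrivial element of `N` is a product of two conjugates of `x`** -/
theorem prd (g : N) (_ : g ≠ 1) : ∃ u v : N, g = (u * x * u⁻¹) * (v * x * v⁻¹) := by
  obtain ⟨i, hi, a, ha, h⟩ := cover24 g g.2
  rw [rp_eq] at h
  set y : N := 1 * x * 1⁻¹ with hy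
  set z : N := (⟨W (wl i), W_mem _⟩ : N) * x * (⟨W (wl i), W_mem _⟩ : N)⁻¹ with hz
  have e1 : orderOf y = 7 := by
    rw [hy, one_mul, inv_one, mul_one]
    exact order_x
  have e2 : orderOf z = 7 := by
    rw [hz, ← order_x]
    exact orderOf_injective (MulAut.conj (⟨W (wl i), W_mem _⟩ : N)).toMonoidHom (MulAut.conj _).injective x
  obtain ⟨u, hu⟩ := conj_seven (y := ⟨a * y * a⁻¹, A_conj ha y.2⟩) (by rw [order_conj ha, e1])
  obtain ⟨v, hv⟩ := conj_seven (y := ⟨a * z * a⁻¹, A_conj ha z.2⟩) (by rw [order_conj ha, e2])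
  refine ⟨u, v, ?_⟩
  rw [← hu, ← hv]
  apply Subtype.ext
  rw [h]
  show _ = (a * (1 * W wX * 1⁻¹) * a⁻¹) * (a * (W (wl i) * W wX * (W (wl i))⁻¹) * a⁻¹)
  group

theorem row3_N : Cfsg.Agent.H210.TC.Row3 N := by
  refine ⟨x, x, by rw [order_x]; norm_num, by rw [order_x]; norm_num, by rw [order_x]; norm_num,
    by rw [order_x]; norm_num, prd, fun g => ?_⟩
  by_cases hg : g = x
  · -- use `x⁻¹`, which is conjugate to `x`
    obtain ⟨w, hw⟩ := conj_seven (y := x⁻¹) (by rw [orderOf_inv]; exact order_x)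
    have h1 : g * x ≠ 1 := by
      intro h
      rw [hg] at h
      have h2 : orderOf x ∣ 2 := orderOf_dvd_of_pow_eq_one (by rw [pow_two]; exact h)
      rw [order_x] at h2
      exact absurd h2 (by norm_num)
    obtain ⟨u, v, h2⟩ := prd (g * x) h1
    refine ⟨u, v, w, ?_⟩
    rw [← hw, ← h2]
    group
  · have h1 : g * x⁻¹ ≠ 1 := fun h => hg (by rw [← mul_inv_eq_one]; exact h)
    obtain ⟨u, v, h2⟩ := prd (g * x⁻¹) h1
    refine ⟨u, v, 1, ?_⟩
    rw [← h2]
    group

/-- **the row `G₂(4)` of S2464, S2452, S4173** -/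
theorem row3_g2_four {F : Type*} [Field F] [Fintype F] (hF : Fintype.card F = 4) :
    Cfsg.Agent.H210.TC.Row3 ↥(Cfsg.Lie.chevG2.group F) := by
  have h4 : Fintype.card F = Fintype.card F4 := hF.trans (show 4 = Fintype.card F4 from rfl)
  have σ : F ≃+* F4 := FiniteField.ringEquivOfCardEq h4
  exact Cfsg.Agent.H210.TC.Row3.of_equiv
    ((Cfsg.Agent.ChevalleyStructure.FieldIso.groupEquiv Cfsg.Lie.chevG2 σ).trans eN) row3_N

/-- **S2464, row `G₂(4)`** -/
theorem six_g2_four {F : Type*} [Field F] [Fintype F] (hF : Fintype.card F = 4) :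
    ∃ x y : ↥(Cfsg.Lie.chevG2.group F), Nat.Coprime (orderOf x) 6 ∧ Nat.Coprime (orderOf y) 6 ∧
      ∀ g : ↥(Cfsg.Lie.chevG2.group F), g ≠ 1 →
        ∃ u v : ↥(Cfsg.Lie.chevG2.group F), g = (u * x * u⁻¹) * (v * y * v⁻¹) := by
  obtain ⟨x, y, -, h1, -, h2, h, -⟩ := row3_g2_four hF
  exact ⟨x, y, h1, h2, h⟩

end Cfsg.Agent.H137.G24
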