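import Mathlib

/-!
# No group of order `|G₂(4)|` in which a self centralizing element of order 13 is conjugate to its square (helper137)
-/

set_option autoImplicit false

namespace Cfsg.Agent.H137.G24

open Subgroup

variable {G : Type*} [Group G]

theorem conj_pow_two {z u : G} (hu : u * z * u⁻¹ = z ^ 2) (k : ℕ) : u ^ k * z * (u ^ k)⁻¹ = z ^ 2 ^ k := by
  induction k with
  | zero => simp
  | succ k ih =>
    rw [pow_succ', mul_inv_rev]
    calc u * u ^ k * z * ((u ^ k)⁻¹ * u⁻¹) = u * (u ^ k * z * (u ^ k)⁻¹) * u⁻¹ := by group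
      _ = (u * z * u⁻¹) ^ 2 ^ k := by rw [ih, conj_pow]
      _ = z ^ 2 ^ (k + 1) := by rw [hu, ← pow_mul, pow_succ']

theorem twelve_dvd {z u : G} (hz : orderOf z = 13) (hu : u * z * u⁻¹ = z ^ 2) : 12 ∣ orderOf u := by
  have h := conj_pow_two hu (orderOf u)
  rw [pow_orderOf_eq_one, one_mul, inv_one, mul_one] at h
  have h1 : z ^ 1 = z ^ 2 ^ orderOf u := by rw [pow_one]; exact h
  have h2 := pow_eq_pow_iff_modEq.1 h1
  rw [hz] at h2
  have h3 : 2 ^ (orderOf u) % 13 = 2 ^ (orderOf u % 12) % 13 := by
    conv_lhs => rw [← Nat.div_add_mod (orderOf u) 12, pow_add, pow_mul, Nat.mul_mod, Nat.pow_mod]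
    norm_num
  have h4 : 1 % 13 = 2 ^ (orderOf u) % 13 := h2
  rw [h3] at h4
  have h5 : orderOf u % 12 < 12 := Nat.mod_lt _ (by norm_num)
  apply Nat.dvd_of_mod_eq_zero
  generalize orderOf u % 12 = m at h4 h5
  interval_cases m <;> first | rfl | exact absurd h4 (by norm_num)

theorem false_of_thirteen [Finite G] (hG : Nat.card G = 251596800) {z u : G} (hz : orderOf z = 13)
    (hc : Nat.card ↥(centralizer ({z} : Set G)) ≤ 13) (hu : u * z * u⁻¹ = z ^ 2) : False := by
  classical
  have hp : Fact (Nat.Prime 13) := ⟨by norm_num⟩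
  have hpg : IsPGroup 13 (zpowers z) := IsPGroup.of_card (n := 1) (by rw [Nat.card_zpowers, hz, pow_one])
  obtain ⟨P, hP⟩ := hpg.exists_le_sylow
  have hcP : Nat.card (P : Subgroup G) = 13 := by
    obtain ⟨n, hn⟩ := IsPGroup.iff_card.1 P.isPGroup'
    have hd : 13 ^ n ∣ Nat.card G := hn ▸ Subgroup.card_subgroup_dvd_card (P : Subgroup G)
    have hn1 : n ≤ 1 := by
      by_contra h
      have h2 : 13 ^ 2 ∣ 251596800 := hG ▸ (pow_dvd_pow 13 (by omega)).trans hd
      norm_num at h2
    have hle : 13 ≤ Nat.card (P : Subgroup G) := by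
      have h3 : Nat.card (zpowers z) ≤ Nat.card (P : Subgroup G) := Nat.card_mono (Set.toFinite _) hP
      rwa [Nat.card_zpowers, hz] at h3
    interval_cases n
    · rw [hn, pow_zero] at hle
      omega
    · rw [hn, pow_one]
  have hPz : zpowers z = (P : Subgroup G) := Subgroup.eq_of_le_of_card_ge hP (by rw [hcP, Nat.card_zpowers, hz])
  have h1 : Nat.card (Sylow 13 G) = (normalizer ((P : Subgroup G) : Set G)).index := P.card_eq_index_normalizer
  have h2 : Nat.card (Sylow 13 G) ≡ 1 [MOD 13] := card_sylow_modEq_one 13 G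
  set M := normalizer ((P : Subgroup G) : Set G) with hM
  have hPM : (P : Subgroup G) ≤ M := le_normalizer
  have h13 : 13 ∣ Nat.card M := hcP ▸ Subgroup.card_dvd_of_le hPM
  have huM : u ∈ M := by
    rw [hM, mem_normalizer_iff, ← hPz]
    have hle : ∀ x ∈ zpowers z, u * x * u⁻¹ ∈ zpowers z := by
      rintro _ ⟨k, rfl⟩
      refine ⟨2 * k, ?_⟩
      show z ^ (2 * k) = u * z ^ k * u⁻¹
      rw [← conj_zpow, hu, zpow_mul, zpow_ofNat]
    have hmap : (zpowers z).map (MulAut.conj u).toMonoidHom = zpowers z := by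
      refine Subgroup.eq_of_le_of_card_ge ?_ ?_
      · rintro _ ⟨x, hx, rfl⟩
        exact hle x hx
      · rw [Nat.card_congr ((zpowers z).equivMapOfInjective (MulAut.conj u).toMonoidHom (MulAut.conj u).injective).toEquiv]
    intro h
    refine ⟨hle h, fun h' => ?_⟩
    rw [← hmap] at h'
    obtain ⟨y, hy, hyh⟩ := h'
    have : y = h := by
      have e : u * y * u⁻¹ = u * h * u⁻¹ := hyh
      exact mul_left_cancel (mul_right_cancel e)
    exact this ▸ hy
  have h12 : 12 ∣ Nat.card M := by
    have h3 := twelve_dvd hz hu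
    have h4 : orderOf (⟨u, huM⟩ : M) ∣ Nat.card M := orderOf_dvd_natCard _
    rw [Subgroup.orderOf_mk] at h4
    exact h3.trans h4
  have h156 : 156 ∣ Nat.card M := by
    have := Nat.Coprime.mul_dvd_of_dvd_of_dvd (by norm_num : Nat.Coprime 12 13) h12 h13
    simpa using this
  have hle : Nat.card M ≤ 156 := by
    let f : M →* MulAut (P : Subgroup G) := (P : Subgroup G).normalizerMonoidHom
    have hker : Nat.card f.ker ≤ 13 := by
      refine le_trans ?_ hc
      let g : f.ker → centralizer ({z} : Set G) := fun x => ⟨x.1.1, by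
        rw [mem_centralizer_singleton_iff]
        have h5 : f x.1 = 1 := x.2
        have h6 := congrArg (fun α : MulAut (P : Subgroup G) => ((α ⟨z, hP (mem_zpowers z)⟩ : (P : Subgroup G)) : G)) h5
        have h7 : (x.1.1 : G) * z * (x.1.1 : G)⁻¹ = z := h6
        rw [mul_inv_eq_iff_eq_mul] at h7
        exact h7⟩
      refine Nat.card_le_card_of_injective g fun x y h => ?_
      have h8 : (x.1.1 : G) = y.1.1 := congrArg (fun c : centralizer ({z} : Set G) => (c : G)) h
      exact Subtype.ext (Subtype.ext h8)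
    have hran : Nat.card f.range ≤ 12 := by
      have hcy : IsCyclic (P : Subgroup G) := isCyclic_of_prime_card hcP
      have h9 : Nat.card (MulAut (P : Subgroup G)) = Nat.totient (Nat.card (P : Subgroup G)) :=
        IsCyclic.card_mulAut _
      rw [hcP] at h9
      have h10 : Nat.totient 13 = 12 := by rw [Nat.totient_prime (by norm_num)]
      rw [h10] at h9
      have h11 : Finite (MulAut (P : Subgroup G)) := Nat.finite_of_card_ne_zero (by rw [h9]; norm_num)
      exact h9 ▸ Nat.card_le_card_of_injective _ (Subtype.val_injective (p := (· ∈ f.range)))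
    have h12' : Nat.card M = Nat.card f.ker * Nat.card f.range := by
      rw [← Nat.card_congr (QuotientGroup.quotientKerEquivRange f).toEquiv, mul_comm]
      exact Subgroup.card_eq_card_quotient_mul_card_subgroup _
    rw [h12']
    calc _ ≤ 13 * 12 := Nat.mul_le_mul hker hran
      _ = 156 := by norm_num
  have hcM : Nat.card M = 156 := by
    have h14 : 0 < Nat.card M := Nat.card_pos
    exact le_antisymm hle (Nat.le_of_dvd h14 h156)
  have h15 : M.index * Nat.card M = Nat.card G := by rw [mul_comm]; exact Subgroup.card_mul_index M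
  rw [hcM, hG] at h15
  have h16 : M.index = 1612800 := by omega
  rw [h1, h16] at h2
  exact absurd h2 (by decide)

end Cfsg.Agent.H137.G24
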