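import Cfsg.Agent.H137.G24.Cls
import Cfsg.Agent.H137.G24.Syl
import Cfsg.Agent.SporRec.G24Match
import Cfsg.Agent.SporRec.G24Upper
import Cfsg.Agent.S1055

/-!
# `G₂(4)` as a permutation group on 416 points, and `G₂(4):2` (helper137)

`eN : Gp ≃* N`, `card_N`, `A = N ⟨T⟩`, `A_le`, `A_conj`, `card_A`.
-/

set_option autoImplicit false
set_option maxRecDepth 100000
set_option exponentiation.threshold 5000
set_option Elab.async false

namespace Cfsg.Agent.H137.G24

open Equiv Subgroup Cfsg.Agent.H123.Cls Cfsg.Agent.Lib.BitNet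
open Cfsg.Agent.SporRec.G24Rel Cfsg.Agent.SporRec.G24Mat Cfsg.Agent.SporRec.G24Code Cfsg.Agent.SporRec.GF4
open Cfsg.Agent.Lib.BitNetSimple (force force_eq tb tb_eq)

/-! ### tables -/

/-- the table is an involution of the points -/
noncomputable def chkI (P : ℕ) : Bool :=
  allN (fun i => band (Nat.blt (lk 9 P i) 416) (Nat.beq (lk 9 P (lk 9 P i)) i)) 416

theorem chkI_spec {P : ℕ} (h : chkI P = true) (i : ℕ) (hi : i < 416) : lk 9 P i < 416 ∧ lk 9 P (lk 9 P i) = i := by
  have h1 := (allN_iff _ _).1 h i hi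
  obtain ⟨h2, h3⟩ := band_true h1
  exact ⟨by rwa [Nat.blt_eq] at h2, Nat.eq_of_beq_eq_true h3⟩

/-- the permutation of a table -/
noncomputable def toP (P : ℕ) (h : chkI P = true) : Perm (Fin 416) :=
  Function.Involutive.toPerm (fun i : Fin 416 => (⟨lk 9 P i, (chkI_spec h i i.2).1⟩ : Fin 416))
    (fun i => Fin.ext (chkI_spec h i i.2).2)

theorem toP_val {P : ℕ} (h : chkI P = true) (i : Fin 416) : (toP P h i : ℕ) = lk 9 P i := rfl

theorem toP_sq {P : ℕ} (h : chkI P = true) : toP P h * toP P h = 1 := by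
  ext i
  rw [Perm.mul_apply, toP_val, toP_val, Perm.one_apply]
  exact (chkI_spec h i i.2).2

theorem c0 : chkI t0 = true := by decide +kernel
theorem c1 : chkI t1 = true := by decide +kernel
theorem c2 : chkI t2 = true := by decide +kernel
theorem c3 : chkI t3 = true := by decide +kernel
theorem c4 : chkI t4 = true := by decide +kernel
theorem c5 : chkI t5 = true := by decide +kernel
theorem cT : chkI tT = true := by decide +kernel

/-- the six generators -/
noncomputable def ga : Fin 6 → Perm (Fin 416)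
  | 0 => toP t0 c0
  | 1 => toP t1 c1
  | 2 => toP t2 c2
  | 3 => toP t3 c3
  | 4 => toP t4 c4
  | 5 => toP t5 c5

/-- the outer automorphism -/
noncomputable def T : Perm (Fin 416) := toP tT cT

theorem T_sq : T * T = 1 := toP_sq cT

theorem T_inv : T⁻¹ = T := inv_eq_of_mul_eq_one_left T_sq

theorem T_val (p : Fin 416) : (T p : ℕ) = lk 9 tT p := rfl

theorem ga_tab (i : Fin 6) (p : Fin 416) : (ga i p : ℕ) = lk 9 (nth gens i.val) p := by
  fin_cases i <;> rfl

theorem ga_sq (i : Fin 6) : ga i * ga i = 1 := by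
  fin_cases i
  · exact toP_sq c0
  · exact toP_sq c1
  · exact toP_sq c2
  · exact toP_sq c3
  · exact toP_sq c4
  · exact toP_sq c5

/-- value of a word -/
noncomputable def W (w : List (Fin 6)) : Perm (Fin 416) := (w.map ga).prod

theorem W_nil : W [] = 1 := rfl

theorem W_cons (i : Fin 6) (w : List (Fin 6)) : W (i :: w) = ga i * W w := by
  rw [W, List.map_cons, List.prod_cons, W]

theorem W_append (v w : List (Fin 6)) : W (v ++ w) = W v * W w := by
  rw [W, List.map_append, List.prod_append, W, W]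

theorem W_reverse (w : List (Fin 6)) : W w.reverse = (W w)⁻¹ := by
  induction w with
  | nil => rw [List.reverse_nil, W_nil, inv_one]
  | cons i w ih =>
    rw [List.reverse_cons, W_append, ih, W_cons, W_cons, W_nil, mul_one, mul_inv_rev,
      inv_eq_of_mul_eq_one_left (ga_sq i)]

theorem W_tab (w : List (Fin 6)) (p : Fin 416) : (W w p : ℕ) = evw 9 gens (w.map Fin.val) p := by
  induction w generalizing p with
  | nil => rfl
  | cons i w ih => rw [W_cons, Perm.mul_apply, ga_tab, ih, List.map_cons, evw_cons]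

/-- two words with the same values -/
theorem W_ext {v : Perm (Fin 416)} {w : List (Fin 6)} {f : ℕ → ℕ} (hf : ∀ p : Fin 416, (v p : ℕ) = f p)
    (h : allN (fun p => Nat.beq (f p) (evw 9 gens (w.map Fin.val) p)) 416 = true) : v = W w := by
  ext p
  rw [hf, W_tab]
  exact Nat.eq_of_beq_eq_true ((allN_iff _ _).1 h p p.2)

/-! ### the graph -/

theorem row_lt {u v : ℕ} (h : (row u).testBit v = true) : v < 416 := by
  unfold row at h
  change ((RR >>> (416 * u)) &&& (2 ^ 416 - 1)).testBit v = true at h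
  rw [Nat.testBit_and, Bool.and_eq_true, Nat.testBit_two_pow_sub_one] at h
  exact of_decide_eq_true h.2

/-- the table is an automorphism -/
noncomputable def chkAut (P : ℕ) : Bool :=
  allN (fun u => force (row u) fun x => Nat.beq (imM (lk 9 P) 9 0 x 0) (row (lk 9 P u))) 416

theorem mem_aut {P : ℕ} {r : Perm (Fin 416)} (hr : ∀ i, (r i : ℕ) = lk 9 P i) (h : chkAut P = true) :
    r ∈ Aut 416 row := by
  rw [mem_Aut]
  intro u v
  have h1 := (allN_iff _ _).1 h u u.2
  rw [force_eq] at h1
  have h2 := Nat.eq_of_beq_eq_true h1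
  rw [hr u, ← h2, Bool.eq_iff_iff, testBit_imM, Nat.zero_testBit]
  constructor
  · rintro (h3 | ⟨q, -, h4, h5⟩)
    · simp at h3
    · have hq := row_lt h4
      rw [zero_add, ← hr ⟨q, hq⟩] at h5
      have h6 : (⟨q, hq⟩ : Fin 416) = v := r.injective (Fin.ext h5)
      rw [← h6]
      exact h4
  · intro h3
    exact Or.inr ⟨v, lt_of_lt_of_le v.2 (by norm_num), h3, by rw [zero_add, hr]⟩

theorem m0 : chkAut t0 = true := by decide +kernel
theorem m1 : chkAut t1 = true := by decide +kernel
theorem m2 : chkAut t2 = true := by decide +kernel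
theorem m3 : chkAut t3 = true := by decide +kernel
theorem m4 : chkAut t4 = true := by decide +kernel
theorem m5 : chkAut t5 = true := by decide +kernel
theorem mT : chkAut tT = true := by decide +kernel

theorem ga_mem_aut (i : Fin 6) : ga i ∈ Aut 416 row := by
  fin_cases i
  · exact mem_aut (toP_val c0) m0
  · exact mem_aut (toP_val c1) m1
  · exact mem_aut (toP_val c2) m2
  · exact mem_aut (toP_val c3) m3
  · exact mem_aut (toP_val c4) m4
  · exact mem_aut (toP_val c5) m5

/-- `G₂(4)` on the 416 points -/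
noncomputable def N : Subgroup (Perm (Fin 416)) := closure (Set.range ga)

theorem ga_mem (i : Fin 6) : ga i ∈ N := subset_closure ⟨i, rfl⟩

theorem W_mem (w : List (Fin 6)) : W w ∈ N := by
  refine Subgroup.list_prod_mem _ fun g hg => ?_
  obtain ⟨i, _, rfl⟩ := List.mem_map.1 hg
  exact ga_mem i

theorem N_le_aut : N ≤ Aut 416 row := by
  refine (closure_le _).2 ?_
  rintro _ ⟨i, rfl⟩
  exact ga_mem_aut i

/-! ### the isomorphism with the Chevalley group -/

theorem relN : R6.all (fun w => allN (fun p => Nat.beq (evw 9 gens (w.map Fin.val) p) p) 416) = true := by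
  decide +kernel

theorem ga_rel : ∀ w ∈ R6, (w.map ga).prod = 1 := by
  intro w hw
  have h1 := List.all_eq_true.1 relN w hw
  ext p
  show (W w p : ℕ) = _
  rw [W_tab, Perm.one_apply]
  exact Nat.eq_of_beq_eq_true ((allN_iff _ _).1 h1 p p.2)

/-- the pairs -/
noncomputable def xs (i : Fin 6) : GL J F4 × Perm (Fin 416) := (SporRec.G24Match.A i, ga i)

theorem xs_rel : ∀ w ∈ R6, (w.map xs).prod = 1 := by
  intro w hw
  have h1 : ((w.map xs).prod).1 = (w.map SporRec.G24Match.A).prod := by
    have := map_list_prod (MonoidHom.fst (GL J F4) (Perm (Fin 416))) (w.map xs)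
    rw [List.map_map] at this
    exact this
  have h2 : ((w.map xs).prod).2 = (w.map ga).prod := by
    have := map_list_prod (MonoidHom.snd (GL J F4) (Perm (Fin 416))) (w.map xs)
    rw [List.map_map] at this
    exact this
  refine Prod.ext ?_ ?_
  · rw [h1, SporRec.G24Match.A_rel w hw]
    rfl
  · rw [h2, ga_rel w hw]
    rfl

/-- the graph of the isomorphism -/
noncomputable def K : Subgroup (GL J F4 × Perm (Fin 416)) := closure (Set.range xs)

theorem finite_K : Finite K := (SporRec.G24Upper.card_closure_le xs xs_rel).1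

theorem card_K_le : Nat.card K ≤ 251596800 := (SporRec.G24Upper.card_closure_le xs xs_rel).2

/-- first projection -/
noncomputable def f1 : K →* GL J F4 := (MonoidHom.fst _ _).comp K.subtype

/-- second projection -/
noncomputable def f2 : K →* Perm (Fin 416) := (MonoidHom.snd _ _).comp K.subtype

theorem range_f1 : f1.range = Gp := by
  rw [f1, MonoidHom.range_comp, Subgroup.range_subtype, K, MonoidHom.map_closure, ← SporRec.G24Match.closure_A]
  congr 1
  rw [← Set.range_comp]
  rfl

theorem range_f2 : f2.range = N := by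
  rw [f2, MonoidHom.range_comp, Subgroup.range_subtype, K, MonoidHom.map_closure, N]
  congr 1
  rw [← Set.range_comp]
  rfl

theorem inj_f1 : Function.Injective f1 := by
  have := finite_K
  have h : Function.Bijective f1.rangeRestrict := by
    refine Function.Surjective.bijective_of_nat_card_le f1.rangeRestrict_surjective ?_
    rw [range_f1]
    exact card_K_le.trans SporRec.G24Match.card_Gp_ge
  intro x y hxy
  exact h.1 (Subtype.ext hxy)

/-- `K` is the Chevalley group -/
noncomputable def e1 : K ≃* Gp := (MonoidHom.ofInjective inj_f1).trans (MulEquiv.subgroupCongr range_f1)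

theorem simple_Gp : IsSimpleGroup Gp :=
  (Cfsg.Agent.S1055.result (F := F4) ⟨F4.w, by decide, by decide⟩).1

/-- the map to the permutations -/
noncomputable def φ : Gp →* Perm (Fin 416) := f2.comp e1.symm.toMonoidHom

theorem range_φ : φ.range = N := by
  rw [φ, MonoidHom.range_comp, MonoidHom.range_eq_top.2 e1.symm.surjective, ← MonoidHom.range_eq_map, range_f2]

theorem ga_ne : ga 0 ≠ 1 := by
  intro h
  have h1 : allN (fun p => Nat.beq (lk 9 t0 p) p) 416 = false := by decide +kernel
  have h2 : allN (fun p => Nat.beq (lk 9 t0 p) p) 416 = true := by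
    rw [allN_iff]
    intro i hi
    have h3 : (ga 0 ⟨i, hi⟩ : ℕ) = lk 9 t0 i := rfl
    rw [← h3, h, Perm.one_apply]
    exact Nat.beq_refl i
  rw [h1] at h2
  cases h2

theorem inj_φ : Function.Injective φ := by
  have := simple_Gp
  rw [← MonoidHom.ker_eq_bot_iff]
  rcases (MonoidHom.normal_ker φ).eq_bot_or_eq_top with h | h
  · exact h
  · exfalso
    have h1 : ga 0 ∈ φ.range := by rw [range_φ]; exact ga_mem 0
    obtain ⟨x, hx⟩ := h1
    have h2 : x ∈ φ.ker := by rw [h]; exact mem_top x
    rw [MonoidHom.mem_ker, hx] at h2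
    exact ga_ne h2

/-- **the isomorphism** -/
noncomputable def eN : Gp ≃* N := (MonoidHom.ofInjective inj_φ).trans (MulEquiv.subgroupCongr range_φ)

theorem card_N : Nat.card N = 251596800 := by
  have := finite_K
  refine le_antisymm ?_ ?_
  · rw [← Nat.card_congr eN.toEquiv, ← Nat.card_congr e1.toEquiv]
    exact card_K_le
  · rw [← Nat.card_congr eN.toEquiv]
    exact SporRec.G24Match.card_Gp_ge

/-! ### the outer automorphism -/

/-- `T ga_i T` is the word `w` -/
noncomputable def chkT (P : ℕ) (w : List ℕ) : Bool :=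
  allN (fun p => Nat.beq (lk 9 tT (lk 9 P (lk 9 tT p))) (evw 9 gens w p)) 416

theorem T_conj_ga (i : Fin 6) : T * ga i * T⁻¹ ∈ N := by
  have key : ∀ (i : Fin 6) (w : List (Fin 6)), chkT (nth gens i.val) (w.map Fin.val) = true → T * ga i * T⁻¹ ∈ N := by
    intro i w h
    rw [T_inv]
    have h1 : T * ga i * T = W w := by
      refine W_ext (f := fun p => lk 9 tT (lk 9 (nth gens i.val) (lk 9 tT p))) (fun p => ?_) h
      rw [Perm.mul_apply, Perm.mul_apply, T_val, ga_tab, T_val]
    rw [h1]
    exact W_mem w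
  fin_cases i
  · exact key 0 [3, 2, 3, 4, 0, 1, 2, 0, 3, 1, 2, 3, 4, 0, 1, 2, 3, 0, 1, 2, 3, 0] (by decide +kernel)
  · exact key 1 [0, 1, 2, 3, 2, 0, 4, 3, 1, 2, 3, 4, 0, 1, 2, 3, 2, 0, 1, 0] (by decide +kernel)
  · exact key 2 [0, 1, 0, 1, 2, 3, 2, 1, 4, 3, 2, 3, 4, 0, 1, 2, 3, 2, 1, 0, 1, 0] (by decide +kernel)
  · exact key 3 [2, 3, 2, 0, 4, 3, 1, 2, 3, 1, 2, 3, 4, 1, 2, 3, 2, 0] (by decide +kernel)
  · exact key 4 [4, 1, 2, 0, 1] (by decide +kernel)
  · exact key 5 [2, 3, 2, 3, 4, 1, 2, 3, 2, 0, 1, 5, 0, 1, 2, 3, 4, 2, 3, 0, 1, 2, 3, 2] (by decide +kernel)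

theorem T_conj {n : Perm (Fin 416)} (hn : n ∈ N) : T * n * T⁻¹ ∈ N := by
  have h : N ≤ N.comap (MulAut.conj T).toMonoidHom := by
    conv_lhs => rw [N]
    refine (closure_le _).2 ?_
    rintro _ ⟨i, rfl⟩
    exact T_conj_ga i
  exact h hn

/-- `G₂(4):2` -/
noncomputable def A : Subgroup (Perm (Fin 416)) := N ⊔ Subgroup.zpowers T

theorem N_le_A : N ≤ A := le_sup_left

theorem T_mem_A : T ∈ A := Subgroup.mem_sup_right (Subgroup.mem_zpowers _)

theorem A_le : A ≤ Aut 416 row := by
  refine sup_le N_le_aut ?_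
  rw [Subgroup.zpowers_le]
  exact mem_aut T_val mT

theorem A_conj {a n : Perm (Fin 416)} (ha : a ∈ A) (hn : n ∈ N) : a * n * a⁻¹ ∈ N := by
  have h : A ≤ Subgroup.normalizer (N : Set (Perm (Fin 416))) := by
    refine sup_le Subgroup.le_normalizer ?_
    rw [Subgroup.zpowers_le, Subgroup.mem_normalizer_iff]
    intro g
    refine ⟨fun hg => T_conj hg, fun hg => ?_⟩
    have h1 := T_conj hg
    rw [T_inv] at h1
    have h3 : T * (T * g * T) * T = g := by
      calc T * (T * g * T) * T = (T * T) * g * (T * T) := by group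
        _ = g := by rw [T_sq]; group
    rwa [h3] at h1
  exact (Subgroup.mem_normalizer_iff.1 (h ha) n).1 hn

/-! ### the element of order 13 -/

/-- the word of `x` -/
abbrev wX : List (Fin 6) := [2, 5, 4, 1, 0, 5, 3, 1]

/-- the word of the element of order 13 -/
abbrev wZ : List (Fin 6) := [2, 5, 4, 1, 0, 5, 3, 1, 5, 2, 5, 4, 1, 0, 5, 3, 1, 5]

/-- the conjugating word -/
abbrev wU : List (Fin 6) := [0, 1, 5, 4, 1, 2, 1, 3, 2, 3, 4, 1, 0, 1, 2, 3, 2, 0, 1]

theorem W_of_chkW {P : ℕ} {w : List (Fin 6)} (h : chkW 416 9 gens P (w.map Fin.val) = true) (p : Fin 416) :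
    (W w p : ℕ) = lk 9 P p := by
  obtain ⟨h1, h2⟩ := band_true h
  rw [W_tab]
  exact (Nat.eq_of_beq_eq_true ((allN_iff _ _).1 h2 p p.2)).symm

theorem z_tab (p : Fin 416) : (W wZ p : ℕ) = lk 9 p20 p := W_of_chkW wd20 p

theorem z_conj : W wU * T * W wZ * (W wU * T)⁻¹ = W wZ ^ 2 := by
  have h : W wU * T * W wZ = W wZ ^ 2 * (W wU * T) := by
    ext p
    rw [pow_two, Perm.mul_apply, Perm.mul_apply, Perm.mul_apply, Perm.mul_apply, Perm.mul_apply, W_tab, T_val, z_tab,
      z_tab, z_tab, W_tab, T_val]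
    have h1 : allN (fun p => Nat.beq (evw 9 gens (wU.map Fin.val) (lk 9 tT (lk 9 p20 p)))
        (lk 9 p20 (lk 9 p20 (evw 9 gens (wU.map Fin.val) (lk 9 tT p))))) 416 = true := by decide +kernel
    exact Nat.eq_of_beq_eq_true ((allN_iff _ _).1 h1 p p.2)
  rw [h, mul_inv_cancel_right]

theorem z_order : orderOf (W wZ) = 13 := by
  have : Fact (Nat.Prime 13) := ⟨by norm_num⟩
  refine orderOf_eq_prime ?_ ?_
  · ext p
    have h2 : ((W wZ ^ 13) p : ℕ) = it 9 p20 13 p := (it_eq z_tab 13 p).symm
    rw [h2, Perm.one_apply]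
    have h1 : allN (fun p => Nat.beq (it 9 p20 13 p) p) 416 = true := by decide +kernel
    exact Nat.eq_of_beq_eq_true ((allN_iff _ _).1 h1 p p.2)
  · intro h
    have h1 : lk 9 p20 0 ≠ 0 := by decide +kernel
    apply h1
    have h2 := z_tab 0
    rw [h] at h2
    exact h2.symm

theorem T_notMem : T ∉ N := by
  intro hT
  have hfin : Finite N := inferInstance
  have hz : W wZ ∈ N := W_mem wZ
  have hu : W wU * T ∈ N := N.mul_mem (W_mem wU) hT
  refine false_of_thirteen (G := N) card_N (z := ⟨W wZ, hz⟩) (u := ⟨W wU * T, hu⟩) ?_ ?_ ?_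
  · rw [Subgroup.orderOf_mk]
    exact z_order
  · have h1 : Nat.card ↥(A ⊓ centralizer {W wZ}) ≤ 12 + 1 := by
      refine card_le_bound (n := 416) (K := 9) (row := row) (w := 9) (P := p20) (by norm_num) z_tab bd20
        (inf_le_left.trans A_le) fun σ hσ p => ?_
      have h2 := Subgroup.mem_centralizer_singleton_iff.1 (Subgroup.mem_inf.1 hσ).2
      exact congrArg (fun τ : Perm (Fin 416) => τ p) h2
    refine le_trans ?_ h1
    let g : centralizer ({(⟨W wZ, hz⟩ : N)} : Set N) → ↥(A ⊓ centralizer {W wZ}) := fun x =>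
      ⟨x.1.1, Subgroup.mem_inf.2 ⟨N_le_A x.1.2, by
        rw [Subgroup.mem_centralizer_singleton_iff]
        have h3 := Subgroup.mem_centralizer_singleton_iff.1 x.2
        exact congrArg Subtype.val h3⟩⟩
    refine Nat.card_le_card_of_injective g fun x y h => ?_
    have h8 : (x.1.1 : Perm (Fin 416)) = y.1.1 := congrArg (fun c : ↥(A ⊓ centralizer {W wZ}) => (c : Perm (Fin 416))) h
    exact Subtype.ext (Subtype.ext h8)
  · exact Subtype.ext z_conj

theorem card_A : 503193600 ≤ Nat.card A := by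
  have h1 : Nat.card N ∣ Nat.card A := Subgroup.card_dvd_of_le N_le_A
  obtain ⟨k, hk⟩ := h1
  have h0 : 0 < Nat.card A := Nat.card_pos
  have h2 : k ≠ 0 := by
    rintro rfl
    omega
  have h3 : k ≠ 1 := by
    rintro rfl
    apply T_notMem
    have h4 : N = A := Subgroup.eq_of_le_of_card_ge N_le_A (by rw [hk, mul_one])
    rw [h4]
    exact T_mem_A
  rw [hk, card_N]
  have h5 : 2 ≤ k := by omega
  calc 503193600 = 251596800 * 2 := by norm_num
    _ ≤ 251596800 * k := Nat.mul_le_mul_left _ h5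

end Cfsg.Agent.H137.G24
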